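import Groth.Agent.Lib.HilbSam.Dim
import Mathlib.RingTheory.Ideal.KrullsHeightTheorem

/-!
# Parameters inside an ideal
-/

set_option autoImplicit false

universe u

namespace Groth.Agent.SopIdeal2

open HilbSam

variable {A : Type u} [CommRing A] [IsNoetherianRing A]

theorem exists_dimLE [Finite (MaximalSpectrum A)] [Nontrivial A] :
    ∃ d : ℕ, ringKrullDim A = d ∧ DimLE (⊥ : Ideal A) d := by
  classical
  obtain ⟨d, hd⟩ : ∃ d : ℕ, ringKrullDim A = d := by
    haveI : Fintype (MaximalSpectrum A) := Fintype.ofFinite _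
    obtain ⟨N, hN⟩ : ∃ N : ℕ, ∀ m : MaximalSpectrum A, m.asIdeal.height ≤ (N : ℕ∞) := by
      have hex : ∀ m : MaximalSpectrum A, ∃ n : ℕ, m.asIdeal.height = (n : ℕ∞) := fun m => by
        obtain ⟨n, hn⟩ := ENat.ne_top_iff_exists.1 (Ideal.height_ne_top (I := m.asIdeal) m.isMaximal.ne_top)
        exact ⟨n, hn.symm⟩
      choose n hn using hex
      exact ⟨Finset.univ.sup n, fun m => (hn m).le.trans (Nat.cast_le.2 (Finset.le_sup (Finset.mem_univ m)))⟩
    have h1 : ringKrullDim A ≤ (N : WithBot ℕ∞) := by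
      rw [ringKrullDim_le_iff_isMaximal_height_le, ← WithBot.coe_natCast]
      exact fun m hm => WithBot.coe_le_coe.2 (hN ⟨m, hm⟩)
    have h0 : (0 : WithBot ℕ∞) ≤ ringKrullDim A := ringKrullDim_nonneg_of_nontrivial
    revert h0 h1
    generalize ringKrullDim A = e
    intro h1 h0
    induction e using WithBot.recBotCoe with
    | bot => simp at h0
    | coe e =>
      induction e using ENat.recTopCoe with
      | top => rw [← WithBot.coe_natCast, WithBot.coe_le_coe, top_le_iff] at h1; exact absurd h1 (ENat.natCast_ne_top _)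
      | coe e => exact ⟨e, rfl⟩
  refine ⟨d, hd, fun l _ => ?_⟩
  have h : (l.length : WithBot ℕ∞) ≤ ringKrullDim A := Order.LTSeries.length_le_krullDim l
  rw [hd] at h
  exact_mod_cast h

/-- Successive parameters inside `a` and the Jacobson radical. -/
theorem exists_sequence [Finite (MaximalSpectrum A)] (a : Ideal A) (h d : ℕ)
    (hh : (h : ℕ∞) ≤ a.height) (hd : DimLE (⊥ : Ideal A) d) (hhd : h ≤ d) :
    ∀ i, i ≤ h → ∃ x : Fin i → A, (∀ k, x k ∈ a ∧ x k ∈ Ring.jacobson A) ∧
      DimLE (Ideal.span (Set.range x)) (d - i) ∧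
      ∀ Q : Ideal A, Q.IsPrime → Ideal.span (Set.range x) ≤ Q →
        (Q.IsMaximal ∧ ¬ a ≤ Q) ∨ (i : ℕ∞) ≤ Q.height := by
  classical
  intro i
  induction i with
  | zero =>
    intro _
    exact ⟨Fin.elim0, fun k => k.elim0, by simpa using hd, fun Q _ _ => Or.inr (by simp)⟩
  | succ i ih =>
    intro hi
    obtain ⟨x, hx, hdim, hht⟩ := ih (by omega)
    set J := Ideal.span (Set.range x)
    let T : Finset (Ideal A) := (J.finite_minimalPrimes_of_isNoetherianRing).toFinset.filter
      fun p => ¬ (p.IsMaximal ∧ ¬ a ≤ p)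
    have hmem : ∀ p ∈ T, p ∈ J.minimalPrimes ∧ ¬ (p.IsMaximal ∧ ¬ a ≤ p) := fun p hp => by
      rwa [Finset.mem_filter, Set.Finite.mem_toFinset] at hp
    have hlow : ∀ p ∈ J.minimalPrimes, p.height ≤ (i : ℕ∞) := fun p hp => by
      refine (Ideal.height_le_card_of_mem_minimalPrimes_span (Set.finite_range x) hp).trans ?_
      rw [← Nat.card_coe_set_eq]
      exact_mod_cast (Finite.card_range_le x).trans (Nat.card_fin i).le
    have hnot : ∀ p ∈ J.minimalPrimes, ¬ a ≤ p := fun p hp hap => by
      have h1 := (hh.trans (Ideal.height_mono hap)).trans (hlow p hp)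
      have : h ≤ i := by exact_mod_cast h1
      omega
    have hnm : ∀ p ∈ T, ¬ p.IsMaximal := fun p hp hm => (hmem p hp).2 ⟨hm, hnot p (hmem p hp).1⟩
    obtain ⟨y, hy, hyT⟩ : ∃ y ∈ a ⊓ Ring.jacobson A, ∀ p ∈ T, y ∉ p := by
      by_contra hc
      have hsub : ((a ⊓ Ring.jacobson A : Ideal A) : Set A) ⊆ ⋃ p ∈ (↑T : Set (Ideal A)), (p : Set A) := fun b hb => by
        by_contra h'
        simp only [Set.mem_iUnion, not_exists, SetLike.mem_coe] at h'
        exact hc ⟨b, hb, fun p hp => h' p hp⟩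
      obtain ⟨p, hp, hle⟩ := (Ideal.subset_union_prime (f := id) ⊥ ⊥ (fun p hp _ _ => (hmem p hp).1.1.1)).1 hsub
      haveI := (hmem p hp).1.1.1
      rcases Ideal.IsPrime.mul_le this |>.1 (Ideal.mul_le_inf.trans hle) with h1 | h1
      · exact hnot p (hmem p hp).1 h1
      · exact hnm p hp (jacobson_le_prime p this h1)
    have hspan : Ideal.span (Set.range (Fin.cons y x : Fin (i + 1) → A)) = Ideal.span {y} ⊔ J := by
      rw [Fin.range_cons, Ideal.span_insert]
    refine ⟨Fin.cons y x, Fin.cases ⟨hy.1, hy.2⟩ hx, ?_, fun Q hQ hle => ?_⟩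
    · intro l hl
      by_cases hl0 : l.length = 0
      · omega
      rw [hspan] at hl
      obtain ⟨p, hp, hpl⟩ := Ideal.exists_minimalPrimes_le (le_sup_right.trans hl)
      have hlt : p < l.head.asIdeal := by
        rcases hpl.eq_or_lt with e | e
        · exfalso
          by_cases hmax : p.IsMaximal
          · have h1 : l.head < l 1 := l.strictMono (by
              rw [Fin.lt_def]
              simp [Nat.one_mod_eq_one.2 (show l.length + 1 ≠ 1 by omega)])
            exact (l 1).2.ne_top (hmax.1.2 _ (e.trans_lt ((PrimeSpectrum.asIdeal_lt_asIdeal _ (l 1)).2 h1)))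
          · refine hyT p (Finset.mem_filter.2 ⟨(Set.Finite.mem_toFinset _).2 hp, fun hm => hmax hm.1⟩) ?_
            rw [e]
            exact hl (Ideal.mem_sup_left (Ideal.mem_span_singleton_self y))
        · exact e
      have := hdim (l.cons ⟨p, hp.1.1⟩ ((PrimeSpectrum.asIdeal_lt_asIdeal _ _).1 hlt)) (by simpa using hp.1.2)
      simp only [RelSeries.cons_length] at this
      omega
    · rw [hspan] at hle
      haveI := hQ
      obtain ⟨p, hp, hpQ⟩ := Ideal.exists_minimalPrimes_le (le_sup_right.trans hle)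
      haveI := hp.1.1
      by_cases hpm : p.IsMaximal
      · rw [← hpm.eq_of_le hQ.ne_top hpQ]
        exact Or.inl ⟨hpm, hnot p hp⟩
      · have hyp : y ∉ p := hyT p (Finset.mem_filter.2 ⟨(Set.Finite.mem_toFinset _).2 hp, fun hm => hpm hm.1⟩)
        have hlt : p < Q := lt_of_le_of_ne hpQ fun e => hyp (e ▸ hle (Ideal.mem_sup_left (Ideal.mem_span_singleton_self y)))
        rcases hht p hp.1.1 hp.1.2 with h1 | h1
        · exact absurd h1.1 hpm
        · refine Or.inr (le_trans ?_ (Ideal.height_add_one_le_of_lt_of_isPrime hlt))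
          rw [Nat.cast_add, Nat.cast_one]
          exact add_le_add_left h1 1

end Groth.Agent.SopIdeal2
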