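import Groth.Agent.Lib.SopIdeal2.Basic
import Groth.Agent.Lib.EmbDef.Regular
import Mathlib

/-!
# Lifting a system of parameters of a localisation
-/

set_option autoImplicit false
set_option linter.style.haveILetI false

universe u

namespace Groth.Agent.SopIdeal2

open HilbSam IsLocalRing

variable {A : Type u} [CommRing A]

/-- A coset avoiding finitely many incomparable primes. -/
theorem exists_add_notMem (c : A) (J : Ideal A) (T : Finset (Ideal A)) (hp : ∀ P ∈ T, P.IsPrime)
    (hinc : ∀ P ∈ T, ∀ Q ∈ T, P ≤ Q → P = Q) (hJ : ∀ P ∈ T, c ∈ P → ¬ J ≤ P) :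
    ∃ y ∈ J, ∀ P ∈ T, c + y ∉ P := by
  classical
  let T1 := T.filter fun P => c ∈ P
  let T2 := T.filter fun P => c ∉ P
  let K := J ⊓ T2.inf id
  obtain ⟨y, hy, hyT⟩ : ∃ y ∈ K, ∀ P ∈ T1, y ∉ P := by
    by_contra hc
    have hsub : (K : Set A) ⊆ ⋃ p ∈ (↑T1 : Set (Ideal A)), (p : Set A) := fun b hb => by
      by_contra h'
      simp only [Set.mem_iUnion, not_exists, SetLike.mem_coe] at h'
      exact hc ⟨b, hb, fun p hp => h' p hp⟩
    obtain ⟨P, hP, hle⟩ := (Ideal.subset_union_prime (f := id) ⊥ ⊥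
      (fun P hP _ _ => hp P (Finset.mem_filter.1 hP).1)).1 hsub
    obtain ⟨hPT, hcP⟩ := Finset.mem_filter.1 hP
    haveI := hp P hPT
    rcases (hp P hPT).inf_le.1 hle with h1 | h1
    · exact hJ P hPT hcP h1
    · obtain ⟨Q, hQ, hQP⟩ := (hp P hPT).inf_le'.1 h1
      obtain ⟨hQT, hcQ⟩ := Finset.mem_filter.1 hQ
      exact hcQ (hinc Q hQT P hPT hQP ▸ hcP)
  refine ⟨y, hy.1, fun P hP h => ?_⟩
  by_cases hc : c ∈ P
  · exact hyT P (Finset.mem_filter.2 ⟨hP, hc⟩) (by simpa using sub_mem h hc)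
  · exact hc (by simpa using sub_mem h (Finset.inf_le (f := id) (Finset.mem_filter.2 ⟨hP, hc⟩) hy.2))

variable [IsNoetherianRing A] [IsLocalRing A] (p : Ideal A) [p.IsPrime]

local notation "Aₚ" => Localization.AtPrime p

theorem exists_lift {s : ℕ} (t : Fin s → Aₚ) (ht : ∀ i, t i ∈ maximalIdeal Aₚ)
    (hreg : RingTheory.Sequence.IsWeaklyRegular Aₚ (List.ofFn t)) (d : ℕ) (hd : DimLE (⊥ : Ideal A) d)
    (c a : Fin s → A) (ha : ∀ i, a i ∉ p) (hca : ∀ i, algebraMap A Aₚ (c i) = algebraMap A Aₚ (a i) * t i) :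
    ∀ i, i ≤ s → ∃ x : Fin i → A, (∀ k, x k ∈ p) ∧
      (∀ (k : Fin i) (hk : (k : ℕ) < s), algebraMap A Aₚ (x k) - algebraMap A Aₚ (a ⟨k, hk⟩) * t ⟨k, hk⟩ ∈
        Ideal.span (t '' {j : Fin s | (j : ℕ) < k})) ∧
      (Ideal.span (Set.range x)).map (algebraMap A Aₚ) = Ideal.span (t '' {j : Fin s | (j : ℕ) < i}) ∧
      DimLE (Ideal.span (Set.range x)) (d - i) := by
  classical
  intro i
  induction i with
  | zero => exact fun _ => ⟨Fin.elim0, fun k => k.elim0, fun k => k.elim0, by simp, by simpa using hd⟩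
  | succ i ih =>
    intro hi
    obtain ⟨x, hxp, hx, hmap, hdim⟩ := ih (by omega)
    let k : Fin s := ⟨i, by omega⟩
    set I := Ideal.span (Set.range x)
    set K := Ideal.span (t '' {j : Fin s | (j : ℕ) < i}) with hK
    set J := K.comap (algebraMap A Aₚ)
    have hdisj : ∀ Q : Ideal A, Q ≤ p → Disjoint (p.primeCompl : Set A) (Q : Set A) := fun Q hQ =>
      Set.disjoint_left.2 fun z hz hzQ => hz (hQ hzQ)
    have hcp : c k ∈ p := by
      have h1 : algebraMap A Aₚ (c k) ∈ maximalIdeal Aₚ := hca k ▸ Ideal.mul_mem_left _ _ (ht k)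
      exact (IsLocalization.AtPrime.to_map_mem_maximal_iff Aₚ p _).1 h1
    have hKm : K ≤ maximalIdeal Aₚ := Ideal.span_le.2 (by rintro _ ⟨j, -, rfl⟩; exact ht j)
    have hJp : J ≤ p := fun z hz => (IsLocalization.AtPrime.to_map_mem_maximal_iff Aₚ p _).1 (hKm hz)
    let T := I.finite_minimalPrimes_of_isNoetherianRing.toFinset
    have hT : ∀ P ∈ T, P ∈ I.minimalPrimes := fun P hP => I.finite_minimalPrimes_of_isNoetherianRing.mem_toFinset.1 hP
    have hlow : ∀ P ∈ T, P ≤ p → c k ∉ P := by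
      intro P hP hPp hcP
      haveI := (hT P hP).1.1
      have hu : (P.map (algebraMap A Aₚ)).comap (algebraMap A Aₚ) = P :=
        IsLocalization.under_map_of_isPrime_disjoint p.primeCompl Aₚ inferInstance (hdisj P hPp)
      have hmin : P.map (algebraMap A Aₚ) ∈ K.minimalPrimes := by
        rw [← hmap, IsLocalization.minimalPrimes_map p.primeCompl Aₚ, Set.mem_preimage]
        show (P.map (algebraMap A Aₚ)).comap (algebraMap A Aₚ) ∈ _
        rw [hu]; exact hT P hP
      have htP : t k ∈ P.map (algebraMap A Aₚ) := by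
        obtain ⟨v, hv⟩ := (IsLocalization.map_units Aₚ (⟨a k, ha k⟩ : p.primeCompl)).exists_left_inv
        have h1 := Ideal.mul_mem_left _ v (Ideal.mem_map_of_mem (algebraMap A Aₚ) hcP)
        rwa [hca, ← mul_assoc, show v * algebraMap A Aₚ (a k) = 1 from hv, one_mul] at h1
      obtain ⟨z, hz, hzK⟩ := Ideal.exists_mul_mem_of_mem_minimalPrimes hmin htP
      refine hz ?_
      have hlist : Ideal.ofList ((List.ofFn t).take i) • (⊤ : Submodule Aₚ Aₚ) = K := by
        rw [smul_eq_mul, Ideal.mul_top, hK, Ideal.ofList]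
        congr 1
        ext w
        simp only [Set.mem_setOf_eq, List.mem_take_iff_getElem, List.length_ofFn, List.getElem_ofFn, Set.mem_image]
        constructor
        · rintro ⟨j, hj, rfl⟩; exact ⟨⟨j, by omega⟩, by simp at hj ⊢; omega, rfl⟩
        · rintro ⟨j, hj, rfl⟩; exact ⟨j, by simp; omega, rfl⟩
      have hr := hreg.regular_mod_prev i (by simp; omega)
      rw [List.getElem_ofFn] at hr
      have h0 : (Submodule.Quotient.mk z : Aₚ ⧸ (Ideal.ofList ((List.ofFn t).take i) • (⊤ : Submodule Aₚ Aₚ))) = 0 := by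
        refine IsSMulRegular.right_eq_zero_of_smul hr ?_
        rw [← Submodule.Quotient.mk_smul, Submodule.Quotient.mk_eq_zero, hlist, smul_eq_mul]
        exact hzK
      rwa [Submodule.Quotient.mk_eq_zero, hlist] at h0
    have hhigh : ∀ P ∈ T, ¬ P ≤ p → ¬ J ≤ P := by
      intro P hP hPp hJP
      haveI := (hT P hP).1.1
      obtain ⟨Q, hQ, hQP⟩ := Ideal.exists_minimalPrimes_le hJP
      have hIJ : I ≤ J := Ideal.map_le_iff_le_comap.1 hmap.le
      have hPQ : P ≤ Q := (hT P hP).2 ⟨hQ.1.1, hIJ.trans hQ.1.2⟩ hQP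
      obtain ⟨Q', hQ', rfl⟩ := Ideal.exists_minimalPrimes_comap_eq (algebraMap A Aₚ) Q hQ
      haveI := hQ'.1.1
      exact hPp (hPQ.trans fun z hz => (IsLocalization.AtPrime.to_map_mem_maximal_iff Aₚ p _).1
        (IsLocalRing.le_maximalIdeal Ideal.IsPrime.ne_top' hz))
    obtain ⟨y, hyJ, hyT⟩ := exists_add_notMem (c k) J T (fun P hP => (hT P hP).1.1)
      (fun P hP Q hQ h => le_antisymm h ((hT Q hQ).2 (hT P hP).1 h)) fun P hP hcP => by
        by_cases hPp : P ≤ p
        · exact absurd hcP (hlow P hP hPp)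
        · exact hhigh P hP hPp
    have hnew : algebraMap A Aₚ (c k + y) - algebraMap A Aₚ (a k) * t k ∈ K := by
      rw [map_add, hca, add_sub_cancel_left]
      exact hyJ
    refine ⟨Fin.snoc (α := fun _ => A) x (c k + y), Fin.lastCases (by simpa using add_mem hcp (hJp hyJ))
      (fun j => by simpa using hxp j), Fin.lastCases (fun hk => by simpa [k] using hnew)
      (fun j hk => by simpa using hx j hk), ?_, ?_⟩
    · have himg : t '' {j : Fin s | (j : ℕ) < i + 1} = insert (t k) (t '' {j : Fin s | (j : ℕ) < i}) := by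
        rw [← Set.image_insert_eq]
        congr 1
        ext j
        simp [k, Fin.ext_iff]
        omega
      rw [Fin.range_snoc, Ideal.span_insert, Ideal.map_sup, himg, Ideal.span_insert, hmap, Ideal.map_span,
        Set.image_singleton]
      refine le_antisymm (sup_le ?_ le_sup_right) (sup_le ?_ le_sup_right)
      · rw [Ideal.span_singleton_le_iff_mem,
          show algebraMap A Aₚ (c k + y) = algebraMap A Aₚ (a k) * t k + (algebraMap A Aₚ (c k + y) - algebraMap A Aₚ (a k) * t k) by ring]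
        exact add_mem (Ideal.mem_sup_left (Ideal.mul_mem_left _ _ (Ideal.mem_span_singleton_self _)))
          (Ideal.mem_sup_right hnew)
      · rw [Ideal.span_singleton_le_iff_mem]
        obtain ⟨v, hv⟩ := (IsLocalization.map_units Aₚ (⟨a k, ha k⟩ : p.primeCompl)).exists_left_inv
        rw [show t k = v * algebraMap A Aₚ (c k + y) - v * (algebraMap A Aₚ (c k + y) - algebraMap A Aₚ (a k) * t k) by
          rw [mul_sub, sub_sub_cancel, ← mul_assoc, show v * algebraMap A Aₚ (a k) = 1 from hv, one_mul]]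
        exact sub_mem (Ideal.mem_sup_left (Ideal.mul_mem_left _ _ (Ideal.mem_span_singleton_self _)))
          (Ideal.mem_sup_right (Ideal.mul_mem_left _ _ hnew))
    · intro l hl
      rw [Fin.range_snoc, Ideal.span_insert] at hl
      obtain ⟨P, hP, hPl⟩ := Ideal.exists_minimalPrimes_le (le_sup_right.trans hl)
      have hne : P ≠ l.head.asIdeal := fun e =>
        hyT P (I.finite_minimalPrimes_of_isNoetherianRing.mem_toFinset.2 hP)
          (e ▸ hl (Ideal.mem_sup_left (Ideal.mem_span_singleton_self _)))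
      have := hdim (l.cons ⟨P, hP.1.1⟩ ((PrimeSpectrum.asIdeal_lt_asIdeal _ _).1 (lt_of_le_of_ne hPl hne)))
        (by simpa using hP.1.2)
      simp only [RelSeries.cons_length] at this
      omega

theorem dim_quotient_add {s d : ℕ} (hd : ringKrullDim A = d) (hsd : s ≤ d) (x : Fin s → A)
    (hx : ∀ i, x i ∈ maximalIdeal A) (hdim : DimLE (Ideal.span (Set.range x)) (d - s)) :
    ringKrullDim (A ⧸ Ideal.span (Set.range x)) + (s : WithBot ℕ∞) = ringKrullDim A := by
  classical
  have h1 : ringKrullDim (A ⧸ Ideal.span (Set.range x)) ≤ ((d - s : ℕ) : WithBot ℕ∞) := by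
    rw [← Module.supportDim_quotient_eq_ringKrullDim, supportDim_le_iff, Ideal.annihilator_quotient]
    exact hdim
  have hle : Ideal.span (Set.range x) ≤ Ring.jacobson A := by
    rw [IsLocalRing.ringJacobson_eq_maximalIdeal, Ideal.span_le]
    rintro _ ⟨i, rfl⟩
    exact hx i
  have h2 := ringKrullDim_le_ringKrullDim_quotient_add_spanFinrank _ hle
  have h3 : (Ideal.span (Set.range x)).spanFinrank ≤ s := by
    refine (Submodule.spanFinrank_span_le_ncard_of_finite (Set.finite_range _)).trans ?_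
    rw [← Nat.card_coe_set_eq]
    exact (Finite.card_range_le _).trans (Nat.card_fin s).le
  refine le_antisymm ?_ (h2.trans (add_le_add le_rfl (Nat.cast_le.2 h3)))
  refine (add_le_add h1 le_rfl).trans ?_
  rw [← Nat.cast_add, Nat.sub_add_cancel hsd, hd]

end Groth.Agent.SopIdeal2
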